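import Cfsg.Agent.MonsterX.ProgM.Base

/-!
# The letters `42..45`: inverses of `pa`, `pd`, `pg`, and `z`
-/

set_option autoImplicit false
set_option maxRecDepth 100000

namespace Cfsg.Agent.MonsterX.ProgM.Inv

open Cfsg.Agent.Monster.VecEngine Cfsg.Agent.MonsterX.ProgBase Cfsg.Agent.MonsterX.Space
open Cfsg.Agent.MonsterX.ProgM.Base Cfsg.Agent.MonsterX.Conc Cfsg.Agent.MonsterX.GensT

theorem E_paInv : E 42 = (E 36)⁻¹ := by
  rw [← W_single 36]
  exact mono_inv (prog_goodT 42) (by decide +kernel)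

theorem E_pdInv : E 43 = (E 37)⁻¹ := by
  rw [← W_single 37]
  exact mono_inv (prog_goodT 43) (by decide +kernel)

theorem E_pgInv : E 44 = (E 38)⁻¹ := by
  rw [← W_single 38]
  exact mono_inv (prog_goodT 44) (by decide +kernel)

theorem z_eq : z = W [0, 12, 0, 12] := mono_eq (prog_goodT 45) (by decide +kernel)

theorem z_mem_Q : z ∈ Q := by
  rw [z_eq]
  apply W_mem
  intro n hn
  apply E_mem_Q
  simp only [List.mem_cons, List.not_mem_nil, or_false] at hn
  omega

theorem z_mem_N : z ∈ N := Q_le_N z_mem_Q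

/-- The monomial letters: `0..38` and `42..45`. -/
theorem E_mem_N' {n : ℕ} (h : n < 39 ∨ 42 ≤ n ∧ n < 46) : E n ∈ N := by
  rcases h with h | ⟨h1, h2⟩
  · exact E_mem_N h
  · have : n = 42 ∨ n = 43 ∨ n = 44 ∨ n = 45 := by omega
    rcases this with rfl | rfl | rfl | rfl
    · rw [E_paInv]; exact N.inv_mem (E_mem_N (by norm_num))
    · rw [E_pdInv]; exact N.inv_mem (E_mem_N (by norm_num))
    · rw [E_pgInv]; exact N.inv_mem (E_mem_N (by norm_num))
    · exact z_mem_N

/-- Words in the monomial letters are in `N`. -/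
theorem W_mem_N {w : List ℕ} (h : ∀ n ∈ w, n < 39 ∨ 42 ≤ n ∧ n < 46) : W w ∈ N :=
  W_mem fun n hn => E_mem_N' (h n hn)

/-- Words in the letters of `C`. -/
theorem W_mem_C {w : List ℕ} (h : ∀ n ∈ w, n < 40 ∨ 42 ≤ n ∧ n < 46) : W w ∈ C := by
  apply W_mem
  intro n hn
  rcases h n hn with h1 | h1
  · exact E_mem_C h1
  · exact N_le_C (E_mem_N' (Or.inr h1))

end Cfsg.Agent.MonsterX.ProgM.Inv
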