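import Cfsg.Agent.MonsterX.RelSym

/-!
# Monomial letters: comparison of a monomial program with a word

`mono_eq`: kernel check that a monomial program is a given word of letters.
-/

set_option autoImplicit false
set_option maxRecDepth 100000

namespace Cfsg.Agent.MonsterX.ProgM.Base

open Cfsg.Agent.Lib.PermNet Cfsg.Agent.Monster.VecEngine Cfsg.Agent.Monster Cfsg.Agent.Monster.VecSpace
open Cfsg.Agent.MonsterX.ProgBase Cfsg.Agent.MonsterX.VecRel Cfsg.Agent.MonsterX.Space

/-- The index bits `b, …, b + n - 1` as label planes. -/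
noncomputable def idx (n : ℕ) : ℕ → Pl :=
  Nat.rec (motive := fun _ => ℕ → Pl) (fun _ => .sgn 0) (fun _ ih b => seqP (plane 18 b) fun p => .cons p (ih (Nat.succ b))) n

/-- All index bits as label planes. -/
noncomputable def labI : Pl := idx 18 0

/-- The only test: all lanes. -/
noncomputable def tstI : List Tst := [⟨U, [0, 1, 2, 3, 4, 5, 6, 7, 8, 9, 10, 11, 12, 13, 14, 15, 16, 17]⟩]

theorem tests_I : tests 18 labI U tstI 0 = true := by decide +kernel

/-- The check that two monomial words agree. -/
noncomputable def same (w₁ w₂ : List Prog) : Bool := and (sameLab U w₁ w₂ labI) (testAll 0 w₁ w₂ tstI)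

theorem same_sound {w₁ w₂ : List Prog} (h₁ : ∀ P ∈ w₁, GoodT P) (h₂ : ∀ P ∈ w₂, GoodT P) (h : same w₁ w₂ = true) :
    WP w₁ = WP w₂ := by
  have h' : and (sameLab U w₁ w₂ labI) (testAll 0 w₁ w₂ tstI) = true := h
  rw [Bool.and_eq_true] at h'
  have e := wordE_eq ℚ two_ne_zero U_lt (fun P hP => (h₁ P hP).good) (fun P hP => (h₂ P hP).good) tests_I h'.1 h'.2
  show rs (wordE ℚ U w₁) = rs (wordE ℚ U w₂)
  rw [e]

/-- A monomial program is the given word of letters. -/
theorem mono_eq {P : Prog} (hP : GoodT P) {w : List ℕ} (h : same [P] (w.map ProgTable.prog) = true) :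
    EP P = Conc.W w := by
  have e := same_sound (w₁ := [P]) (w₂ := w.map ProgTable.prog)
    (fun Q hQ => by rw [List.mem_singleton.1 hQ]; exact hP) (Conc.progs_goodT w) h
  rw [← WP_single]
  exact e

/-- A monomial program is the inverse of the given word of letters. -/
theorem mono_inv {P : Prog} (hP : GoodT P) {w : List ℕ} (h : same (P :: w.map ProgTable.prog) [] = true) :
    EP P = (Conc.W w)⁻¹ := by
  have e := same_sound (w₁ := P :: w.map ProgTable.prog) (w₂ := [])
    (fun Q hQ => by
      rcases List.mem_cons.1 hQ with rfl | hQ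
      · exact hP
      · exact Conc.progs_goodT w Q hQ) (fun Q hQ => absurd hQ (by simp)) h
  rw [WP_cons hP (Conc.progs_goodT w), WP_nil] at e
  exact eq_inv_of_mul_eq_one_right e

/-- Words in the letters `0..38` are in `N`. -/
theorem mem_N {w : List ℕ} (h : ∀ n ∈ w, n < 39) : Conc.W w ∈ Conc.N :=
  Conc.W_mem fun n hn => Conc.E_mem_N (h n hn)

end Cfsg.Agent.MonsterX.ProgM.Base
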